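import Mathlib
import Groth.Prelude.Def_PP16

/-! helper7: principal parts of finite order commute with localization of the algebra. -/

set_option linter.style.haveILetI false
set_option linter.unusedVariables false
set_option linter.unusedSectionVars false
set_option linter.overlappingInstances false

open scoped TensorProduct
open PP16

namespace Groth.Agent.Helper7.PPLoc

universe u

section

variable (A B B' : Type u) [CommRing A] [CommRing B] [Algebra A B]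
    [CommRing B'] [Algebra B B'] [Algebra A B'] [IsScalarTower A B B'] (S : Submonoid B)
    [IsLocalization S B']

/-- clearing denominators in `B' ⊗ B'` -/
theorem exists_mul_eq_tensorMap (t' : B' ⊗[A] B') : ∃ s ∈ S, ∃ t : B ⊗[A] B,
    (algebraMap B B' s ⊗ₜ[A] algebraMap B B' s) * t' = tensorMap A B A B' t := by
  induction t' using TensorProduct.induction_on with
  | zero => exact ⟨1, S.one_mem, 0, by simp⟩
  | tmul b' c' =>
    obtain ⟨⟨b, s1⟩, hb⟩ := IsLocalization.surj S b'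
    obtain ⟨⟨c, s2⟩, hc⟩ := IsLocalization.surj S c'
    simp only at hb hc
    refine ⟨s1 * s2, S.mul_mem s1.2 s2.2, (s2 * b) ⊗ₜ[A] (s1 * c), ?_⟩
    rw [tensorMap_tmul, Algebra.TensorProduct.tmul_mul_tmul, map_mul, map_mul, map_mul, ← hb, ← hc]
    congr 1 <;> ring
  | add x y hx hy =>
    obtain ⟨s1, hs1, t1, h1⟩ := hx
    obtain ⟨s2, hs2, t2, h2⟩ := hy
    refine ⟨s1 * s2, S.mul_mem hs1 hs2, (s2 ⊗ₜ[A] s2) * t1 + (s1 ⊗ₜ[A] s1) * t2, ?_⟩
    have e : ((algebraMap B B' (s1 * s2)) ⊗ₜ[A] (algebraMap B B' (s1 * s2)) : B' ⊗[A] B') =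
        ((algebraMap B B' s1) ⊗ₜ[A] (algebraMap B B' s1)) *
          ((algebraMap B B' s2) ⊗ₜ[A] (algebraMap B B' s2)) := by
      rw [map_mul, Algebra.TensorProduct.tmul_mul_tmul]
    simp only [map_add, map_mul, tensorMap_tmul]
    rw [← h1, ← h2, ← map_mul, e]
    ring

/-- the submonoid of `B ⊗ B` of elements `s₁ ⊗ s₂` -/
def tensorSubmonoid : Submonoid (B ⊗[A] B) where
  carrier := {x | ∃ s1 ∈ S, ∃ s2 ∈ S, x = s1 ⊗ₜ[A] s2}
  one_mem' := ⟨1, S.one_mem, 1, S.one_mem, rfl⟩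
  mul_mem' := by
    rintro _ _ ⟨s1, h1, s2, h2, rfl⟩ ⟨s1', h1', s2', h2', rfl⟩
    exact ⟨s1 * s1', S.mul_mem h1 h1', s2 * s2', S.mul_mem h2 h2',
      Algebra.TensorProduct.tmul_mul_tmul _ _ _ _⟩

/-- kernel of `B ⊗ B → B' ⊗ B'` is torsion -/
theorem exists_mul_eq_zero_of_tensorMap_eq_zero (t : B ⊗[A] B)
    (ht : tensorMap A B A B' t = 0) : ∃ s ∈ S, (s ⊗ₜ[A] s) * t = 0 := by
  let N := tensorSubmonoid A B S
  let L := Localization N
  let gL : B →ₐ[A] L := (IsScalarTower.toAlgHom A (B ⊗[A] B) L).comp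
    Algebra.TensorProduct.includeLeft
  let gR : B →ₐ[A] L := (IsScalarTower.toAlgHom A (B ⊗[A] B) L).comp
    Algebra.TensorProduct.includeRight
  have hgL : ∀ y : S, IsUnit (gL y) := by
    intro y
    exact IsLocalization.map_units L (⟨(y : B) ⊗ₜ[A] 1, y, y.2, 1, S.one_mem, rfl⟩ : N)
  have hgR : ∀ y : S, IsUnit (gR y) := by
    intro y
    exact IsLocalization.map_units L (⟨1 ⊗ₜ[A] (y : B), 1, S.one_mem, y, y.2, rfl⟩ : N)
  let gL' : B' →ₐ[A] L := IsLocalization.liftAlgHom (M := S) (f := gL) hgL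
  let gR' : B' →ₐ[A] L := IsLocalization.liftAlgHom (M := S) (f := gR) hgR
  let ψ : B' ⊗[A] B' →ₐ[A] L := Algebra.TensorProduct.lift gL' gR' (fun _ _ => Commute.all _ _)
  have hψ : ∀ x : B ⊗[A] B, ψ (tensorMap A B A B' x) = algebraMap (B ⊗[A] B) L x := by
    intro x
    induction x using TensorProduct.induction_on with
    | zero => simp
    | tmul b c =>
      rw [tensorMap_tmul, Algebra.TensorProduct.lift_tmul]
      have h1 : gL' (algebraMap B B' b) = gL b := IsLocalization.lift_eq hgL b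
      have h2 : gR' (algebraMap B B' c) = gR c := IsLocalization.lift_eq hgR c
      rw [h1, h2]
      show algebraMap (B ⊗[A] B) L (b ⊗ₜ[A] 1) * algebraMap (B ⊗[A] B) L (1 ⊗ₜ[A] c) = _
      rw [← map_mul, Algebra.TensorProduct.tmul_mul_tmul, mul_one, one_mul]
    | add x y hx hy => rw [map_add, map_add, hx, hy, map_add]
  have h0 : algebraMap (B ⊗[A] B) L t = 0 := by rw [← hψ, ht, map_zero]
  obtain ⟨⟨_, s1, hs1, s2, hs2, rfl⟩, hm⟩ := (IsLocalization.map_eq_zero_iff N L t).1 h0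
  refine ⟨s1 * s2, S.mul_mem hs1 hs2, ?_⟩
  have : ((s1 * s2) ⊗ₜ[A] (s1 * s2) : B ⊗[A] B) = (s2 ⊗ₜ[A] s1) * (s1 ⊗ₜ[A] s2) := by
    rw [Algebra.TensorProduct.tmul_mul_tmul, mul_comm s2 s1]
  rw [this, mul_assoc]
  simp only at hm
  rw [hm, mul_zero]

theorem isUnit_tmul (s : B) (hs : s ∈ S) :
    IsUnit ((algebraMap B B' s) ⊗ₜ[A] (algebraMap B B' s) : B' ⊗[A] B') := by
  have h1 : IsUnit (algebraMap B B' s) := IsLocalization.map_units B' (⟨s, hs⟩ : S)
  have h2 : ((algebraMap B B' s) ⊗ₜ[A] (algebraMap B B' s) : B' ⊗[A] B') =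
      Algebra.TensorProduct.includeLeft (R := A) (S := A) (A := B') (B := B') (algebraMap B B' s) *
      Algebra.TensorProduct.includeRight (R := A) (A := B') (B := B') (algebraMap B B' s) := by
    simp
  rw [h2]
  exact (h1.map _).mul (h1.map _)

include S in
theorem ideal_le_map :
    KaehlerDifferential.ideal A B' ≤
      Ideal.map (tensorMap A B A B') (KaehlerDifferential.ideal A B) := by
  rw [← KaehlerDifferential.span_range_eq_ideal, Ideal.span_le]
  rintro _ ⟨b', rfl⟩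
  obtain ⟨⟨b, s⟩, hb⟩ := IsLocalization.surj S b'
  simp only at hb
  have hu := isUnit_tmul A B B' S s s.2
  have hmem : ((s : B) ⊗ₜ[A] b - b ⊗ₜ[A] (s : B) : B ⊗[A] B) ∈ KaehlerDifferential.ideal A B := by
    rw [KaehlerDifferential.ideal, RingHom.mem_ker, map_sub,
      Algebra.TensorProduct.lmul'_apply_tmul, Algebra.TensorProduct.lmul'_apply_tmul, mul_comm,
      sub_self]
  have h1 : ((algebraMap B B' s) ⊗ₜ[A] (algebraMap B B' s) : B' ⊗[A] B') *
      ((1 : B') ⊗ₜ[A] b' - b' ⊗ₜ[A] (1 : B')) =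
      tensorMap A B A B' ((s : B) ⊗ₜ[A] b - b ⊗ₜ[A] (s : B)) := by
    rw [map_sub, tensorMap_tmul, tensorMap_tmul, mul_sub, Algebra.TensorProduct.tmul_mul_tmul,
      Algebra.TensorProduct.tmul_mul_tmul, mul_one, ← hb, mul_comm b']
  have h2 : ((1 : B') ⊗ₜ[A] b' - b' ⊗ₜ[A] (1 : B')) =
      ↑(hu.unit⁻¹) * tensorMap A B A B' ((s : B) ⊗ₜ[A] b - b ⊗ₜ[A] (s : B)) := by
    rw [← h1, ← mul_assoc, IsUnit.val_inv_mul, one_mul]
  show ((1 : B') ⊗ₜ[A] b' - b' ⊗ₜ[A] (1 : B')) ∈ _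
  rw [h2]
  exact Ideal.mul_mem_left _ _ (Ideal.mem_map_of_mem _ hmem)

/-- elements of an extended ideal, after clearing denominators -/
theorem exists_mul_eq_tensorMap_of_mem_map (J : Ideal (B ⊗[A] B)) (u : B' ⊗[A] B')
    (hu : u ∈ Ideal.map (tensorMap A B A B') J) : ∃ s ∈ S, ∃ j ∈ J,
    (algebraMap B B' s ⊗ₜ[A] algebraMap B B' s) * u = tensorMap A B A B' j := by
  refine Submodule.span_induction ?_ ?_ ?_ ?_ hu
  · rintro _ ⟨j, hj, rfl⟩
    exact ⟨1, S.one_mem, j, hj, by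
      rw [map_one, ← Algebra.TensorProduct.one_def, one_mul]⟩
  · exact ⟨1, S.one_mem, 0, J.zero_mem, by simp⟩
  · rintro x y _ _ ⟨s1, hs1, j1, hj1, h1⟩ ⟨s2, hs2, j2, hj2, h2⟩
    refine ⟨s1 * s2, S.mul_mem hs1 hs2, (s2 ⊗ₜ[A] s2) * j1 + (s1 ⊗ₜ[A] s1) * j2,
      J.add_mem (J.mul_mem_left _ hj1) (J.mul_mem_left _ hj2), ?_⟩
    have e : ((algebraMap B B' (s1 * s2)) ⊗ₜ[A] (algebraMap B B' (s1 * s2)) : B' ⊗[A] B') =
        ((algebraMap B B' s1) ⊗ₜ[A] (algebraMap B B' s1)) *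
          ((algebraMap B B' s2) ⊗ₜ[A] (algebraMap B B' s2)) := by
      rw [map_mul, Algebra.TensorProduct.tmul_mul_tmul]
    simp only [map_add, map_mul, tensorMap_tmul]
    rw [← h1, ← h2, ← map_mul, e]
    ring
  · rintro a x _ ⟨s1, hs1, j1, hj1, h1⟩
    obtain ⟨s2, hs2, t2, h2⟩ := exists_mul_eq_tensorMap A B B' S a
    refine ⟨s2 * s1, S.mul_mem hs2 hs1, t2 * j1, J.mul_mem_left _ hj1, ?_⟩
    have e : ((algebraMap B B' (s2 * s1)) ⊗ₜ[A] (algebraMap B B' (s2 * s1)) : B' ⊗[A] B') =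
        ((algebraMap B B' s2) ⊗ₜ[A] (algebraMap B B' s2)) *
          ((algebraMap B B' s1) ⊗ₜ[A] (algebraMap B B' s1)) := by
      rw [map_mul, Algebra.TensorProduct.tmul_mul_tmul]
    rw [map_mul (tensorMap A B A B'), ← h1, ← h2, smul_eq_mul, e]
    ring

end

section Main

variable (n : ℕ) (A B B' : Type u) [CommRing A] [CommRing B] [Algebra A B]
    [CommRing B'] [Algebra B B'] [Algebra A B'] [IsScalarTower A B B'] (S : Submonoid B)
    [IsLocalization S B']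

/-- the power trick -/
theorem exists_mul_eq_pow (s : B) : ∃ y : P n A B,
    (Ideal.Quotient.mk _ (s ⊗ₜ[A] s) : P n A B) * y = (algebraMap B (P n A B) s) ^ (n + 2) := by
  set a : P n A B := algebraMap B (P n A B) s with ha
  set d : P n A B := Ideal.Quotient.mk _ ((1 : B) ⊗ₜ[A] s - s ⊗ₜ[A] (1 : B)) with hd
  have ha' : a = Ideal.Quotient.mk _ (s ⊗ₜ[A] (1 : B)) := rfl
  have hd0 : d ^ (n + 1) = 0 := by
    rw [hd, ← map_pow, Ideal.Quotient.eq_zero_iff_mem]
    exact Ideal.pow_mem_pow (KaehlerDifferential.one_smul_sub_smul_one_mem_ideal A s) _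
  have h1 : (Ideal.Quotient.mk _ (s ⊗ₜ[A] s) : P n A B) = a * (a + d) := by
    rw [ha', hd, ← map_add, ← map_mul]
    congr 1
    rw [add_sub_cancel, Algebra.TensorProduct.tmul_mul_tmul, mul_one, one_mul]
  obtain ⟨y, hy⟩ := sub_dvd_pow_sub_pow a (-d) (n + 1)
  have h2 : (-d) ^ (n + 1) = 0 := by rw [neg_pow, hd0, mul_zero]
  rw [h2, sub_zero, sub_neg_eq_add] at hy
  refine ⟨y, ?_⟩
  rw [h1, mul_assoc, ← hy, ← pow_succ']

attribute [local instance] PP16.mapAlgebra PP16.isScalarTower_mapAlgebra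

theorem main : IsLocalization (S.map (algebraMap B (PP16.P n A B))) (PP16.P n A B') := by
  have hmapmk : ∀ x : B ⊗[A] B, algebraMap (P n A B) (P n A B') (Ideal.Quotient.mk _ x) =
      Ideal.Quotient.mk _ (tensorMap A B A B' x) := fun x => map_mk n A B A B' x
  have hkill : ∀ (s : B) (hs : s ∈ S) (w : P n A B),
      (Ideal.Quotient.mk _ (s ⊗ₜ[A] s) : P n A B) * w = 0 →
      ∃ c : S.map (algebraMap B (PP16.P n A B)), (c : P n A B) * w = 0 := by
    intro s hs w hw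
    obtain ⟨y, hy⟩ := exists_mul_eq_pow n A B s
    refine ⟨⟨(algebraMap B (P n A B) s) ^ (n + 2), ?_⟩, ?_⟩
    · rw [← map_pow]
      exact ⟨s ^ (n + 2), pow_mem hs _, rfl⟩
    · show (algebraMap B (P n A B) s) ^ (n + 2) * w = 0
      rw [← hy, mul_comm _ y, mul_assoc, hw, mul_zero]
  refine ⟨?_, ?_, ?_⟩
  · rintro ⟨_, s, hs, rfl⟩
    show IsUnit (algebraMap (P n A B) (P n A B') (algebraMap B (P n A B) s))
    have : algebraMap (P n A B) (P n A B') (algebraMap B (P n A B) s) =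
        algebraMap B' (P n A B') (algebraMap B B' s) := map_algebraMap n A B A B' s
    rw [this]
    exact (IsLocalization.map_units B' (⟨s, hs⟩ : S)).map _
  · intro z
    obtain ⟨t', rfl⟩ := Ideal.Quotient.mk_surjective z
    obtain ⟨s, hs, t, ht⟩ := exists_mul_eq_tensorMap A B B' S t'
    obtain ⟨y, hy⟩ := exists_mul_eq_pow n A B s
    refine ⟨(Ideal.Quotient.mk _ t * y, ⟨(algebraMap B (P n A B) s) ^ (n + 2), ?_⟩), ?_⟩
    · rw [← map_pow]
      exact ⟨s ^ (n + 2), pow_mem hs _, rfl⟩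
    · show Ideal.Quotient.mk _ t' * algebraMap (P n A B) (P n A B')
        ((algebraMap B (P n A B) s) ^ (n + 2)) =
        algebraMap (P n A B) (P n A B') (Ideal.Quotient.mk _ t * y)
      rw [← hy, map_mul, map_mul, hmapmk, hmapmk, ← ht, tensorMap_tmul, map_mul]
      ring
  · intro x y hxy
    have hw : algebraMap (P n A B) (P n A B') (x - y) = 0 := by rw [map_sub, hxy, sub_self]
    obtain ⟨t, ht⟩ := Ideal.Quotient.mk_surjective (x - y)
    rw [← ht, hmapmk, Ideal.Quotient.eq_zero_iff_mem] at hw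
    have hle : KaehlerDifferential.ideal A B' ^ (n + 1) ≤
        Ideal.map (tensorMap A B A B') (KaehlerDifferential.ideal A B ^ (n + 1)) := by
      rw [Ideal.map_pow]
      exact Ideal.pow_right_mono (ideal_le_map A B B' S) _
    obtain ⟨s, hs, j, hj, hsj⟩ := exists_mul_eq_tensorMap_of_mem_map A B B' S _ _ (hle hw)
    have h0 : tensorMap A B A B' ((s ⊗ₜ[A] s) * t - j) = 0 := by
      rw [map_sub, map_mul, tensorMap_tmul, hsj, sub_self]
    obtain ⟨s', hs', h1⟩ := exists_mul_eq_zero_of_tensorMap_eq_zero A B B' S _ h0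
    have h2 : (((s' * s) ⊗ₜ[A] (s' * s) : B ⊗[A] B)) * t = (s' ⊗ₜ[A] s') * j := by
      rw [mul_sub, sub_eq_zero] at h1
      rw [← h1, ← mul_assoc, Algebra.TensorProduct.tmul_mul_tmul]
    have h3 : (Ideal.Quotient.mk _ ((s' * s) ⊗ₜ[A] (s' * s)) : P n A B) * (x - y) = 0 := by
      rw [← ht, ← map_mul, h2, Ideal.Quotient.eq_zero_iff_mem]
      exact Ideal.mul_mem_left _ _ hj
    obtain ⟨c, hc⟩ := hkill (s' * s) (S.mul_mem hs' hs) (x - y) h3
    refine ⟨c, ?_⟩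
    rw [mul_sub, sub_eq_zero] at hc
    exact hc

end Main

end Groth.Agent.Helper7.PPLoc
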